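import Mathlib

/-!
# A finite group of orientation-preserving isometries of the Cayley tree of a free group fixes a vertex
(helper77; generic tool for project LSF = S5286)

Word norm only: `d(u, v) = ‖u⁻¹ v‖`.  The centre of a finite orbit is a vertex or an edge; an edge
cannot be inverted by a map sending positive edges to positive edges.
-/

set_option autoImplicit false

namespace Cfsg.Agent.Lib.Helper77.LSF

open FreeGroup

section

variable {X : Type*} [DecidableEq X]

/-- No cancellation: if the reduced word of `t` does not start with the first letter of `u`,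
then `‖u⁻¹ t‖ = ‖u‖ + ‖t‖`. -/
theorem norm_inv_mul_of_head_ne (u t : FreeGroup X) (l1 : X × Bool) (R : List (X × Bool))
    (hu : u.toWord = l1 :: R) (ht : ∀ T, t.toWord ≠ l1 :: T) :
    FreeGroup.norm (u⁻¹ * t) = FreeGroup.norm u + FreeGroup.norm t := by
  unfold FreeGroup.norm
  rw [toWord_mul, toWord_inv, hu]
  have hred : IsReduced (invRev (l1 :: R) ++ t.toWord) := by
    have h1 : IsReduced (invRev (l1 :: R)) := by
      rw [← hu, ← toWord_inv]; exact isReduced_toWord
    refine List.IsChain.append h1 isReduced_toWord ?_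
    intro x hx y hy
    obtain rfl : x = (l1.1, !l1.2) := by
      simpa [invRev, eq_comm] using hx
    intro h1eq
    cases hT : t.toWord with
    | nil => rw [hT] at hy; simp at hy
    | cons hd tl =>
      rw [hT] at hy
      have hyhd : y = hd := by simpa [eq_comm] using hy
      subst hyhd
      have hne : y ≠ l1 := by
        intro e
        exact ht tl (by rw [hT, e])
      by_contra hcon
      apply hne
      have h2 : y.2 = l1.2 := by
        revert hcon
        cases y.2 <;> cases l1.2 <;> simp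
      exact Prod.ext h1eq.symm h2
  rw [hred.reduce_eq, List.length_append, invRev_length]

/-- The step towards the centre. -/
theorem step_lemma (t u : FreeGroup X) (l1 l2 : X × Bool) (rest : List (X × Bool))
    (hu : u.toWord = l1 :: l2 :: rest) :
    FreeGroup.norm ((mk [l1])⁻¹ * t) + 1 ≤ max (FreeGroup.norm t) (FreeGroup.norm (u⁻¹ * t)) := by
  by_cases ht : ∃ T, t.toWord = l1 :: T
  · obtain ⟨T, hT⟩ := ht
    have e : t = mk [l1] * mk T := by
      rw [mul_mk, List.singleton_append, ← hT, mk_toWord]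
    have e2 : (mk [l1])⁻¹ * t = mk T := by rw [e, inv_mul_cancel_left]
    rw [e2]
    have h1 : FreeGroup.norm (mk T) ≤ T.length := FreeGroup.norm_mk_le
    have h2 : FreeGroup.norm t = T.length + 1 := by unfold FreeGroup.norm; rw [hT]; rfl
    exact le_max_of_le_left (by omega)
  · push Not at ht
    have h1 := norm_inv_mul_of_head_ne u t l1 (l2 :: rest) hu ht
    have h2 : FreeGroup.norm u = rest.length + 2 := by unfold FreeGroup.norm; rw [hu]; rfl
    have h3 : FreeGroup.norm ((mk [l1])⁻¹ * t) ≤ 1 + FreeGroup.norm t := by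
      refine (FreeGroup.norm_mul_le _ _).trans ?_
      rw [FreeGroup.norm_inv_eq]
      have h4 : FreeGroup.norm (mk [l1]) ≤ 1 := FreeGroup.norm_mk_le
      omega
    exact le_max_of_le_right (by omega)

/-- Two letters: `‖a⁻¹ b‖ ≠ 1` when `‖a‖ = ‖b‖ = 1`. -/
theorem norm_letters_ne_one (a b : FreeGroup X) (la lb : X × Bool)
    (ha : a.toWord = [la]) (hb : b.toWord = [lb]) : FreeGroup.norm (a⁻¹ * b) ≠ 1 := by
  unfold FreeGroup.norm
  rw [toWord_mul, toWord_inv, ha, hb]
  simp only [invRev, List.map_cons, List.map_nil, List.reverse_cons, List.reverse_nil,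
    List.nil_append, List.cons_append, reduce.cons, reduce_nil]
  split_ifs <;> simp

/-- **Fixed point theorem.**  A finite group acting on the vertices of the Cayley tree of a free
group by isometries that send positive edges to positive edges fixes a vertex. -/
theorem tree_fixed_point {H : Type*} [Group H] [Finite H] (act : H → FreeGroup X → FreeGroup X)
    (h1 : ∀ v, act 1 v = v) (hmul : ∀ h h' v, act (h * h') v = act h (act h' v))
    (hiso : ∀ h u v, FreeGroup.norm ((act h u)⁻¹ * act h v) = FreeGroup.norm (u⁻¹ * v))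
    (hor : ∀ h u x, ∃ y : X, act h (u * of x) = act h u * of y) :
    ∃ v, ∀ h, act h v = v := by
  classical
  cases nonempty_fintype H
  let g : FreeGroup X → ℕ := fun v => Finset.univ.sup (fun h' : H => FreeGroup.norm (v⁻¹ * act h' 1))
  have hg_le : ∀ h v, g (act h v) ≤ g v := by
    intro h v
    apply Finset.sup_le
    intro h' _
    have e : act h' 1 = act h (act (h⁻¹ * h') 1) := by rw [← hmul, mul_inv_cancel_left]
    rw [e, hiso]
    exact Finset.le_sup (f := fun h' : H => FreeGroup.norm (v⁻¹ * act h' 1)) (Finset.mem_univ _)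
  have hg_eq : ∀ h v, g (act h v) = g v := by
    intro h v
    apply le_antisymm (hg_le h v)
    have h2 := hg_le h⁻¹ (act h v)
    rwa [← hmul, inv_mul_cancel, h1] at h2
  obtain ⟨v, hv⟩ : ∃ v, ∀ w, g v ≤ g w := by
    obtain ⟨n, ⟨v, rfl⟩, hmin⟩ :=
      WellFounded.has_min Nat.lt_wfRel.wf (Set.range g) ⟨g 1, 1, rfl⟩
    exact ⟨v, fun w => not_lt.mp (hmin (g w) ⟨w, rfl⟩)⟩
  have hclose : ∀ v v', (∀ w, g v ≤ g w) → g v' = g v → FreeGroup.norm (v⁻¹ * v') ≤ 1 := by
    intro v v' hv hv'
    by_contra hcon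
    push Not at hcon
    obtain ⟨l1, l2, rest, hw⟩ : ∃ l1 l2 rest, (v⁻¹ * v').toWord = l1 :: l2 :: rest := by
      unfold FreeGroup.norm at hcon
      match hh : (v⁻¹ * v').toWord with
      | [] => rw [hh] at hcon; simp at hcon
      | [a] => rw [hh] at hcon; simp at hcon
      | l1 :: l2 :: rest => exact ⟨l1, l2, rest, rfl⟩
    have hpt : ∀ h' : H, FreeGroup.norm ((v * mk [l1])⁻¹ * act h' 1) + 1 ≤ g v := by
      intro h'
      have hs := step_lemma (v⁻¹ * act h' 1) (v⁻¹ * v') l1 l2 rest hw
      have e1 : (mk [l1])⁻¹ * (v⁻¹ * act h' 1) = (v * mk [l1])⁻¹ * act h' 1 := by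
        simp only [mul_inv_rev, mul_assoc]
      have e2 : (v⁻¹ * v')⁻¹ * (v⁻¹ * act h' 1) = v'⁻¹ * act h' 1 := by
        simp only [mul_inv_rev, inv_inv, mul_assoc, mul_inv_cancel_left]
      rw [e1, e2] at hs
      refine hs.trans (max_le ?_ ?_)
      · exact Finset.le_sup (f := fun h' : H => FreeGroup.norm (v⁻¹ * act h' 1)) (Finset.mem_univ h')
      · rw [← hv']
        exact Finset.le_sup (f := fun h' : H => FreeGroup.norm (v'⁻¹ * act h' 1)) (Finset.mem_univ h')
    have h0 : 1 ≤ g v := le_trans (Nat.le_add_left 1 _) (hpt 1)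
    have hm : g (v * mk [l1]) ≤ g v - 1 := by
      apply Finset.sup_le
      intro h' _
      have := hpt h'
      omega
    have := hv (v * mk [l1])
    omega
  refine ⟨v, fun h0 => ?_⟩
  by_contra hne
  have hgv' : g (act h0 v) = g v := hg_eq h0 v
  have hinj : ∀ a b, act h0 a = act h0 b → a = b := by
    intro a b hab
    have h2 := congrArg (act h0⁻¹) hab
    rwa [← hmul, ← hmul, inv_mul_cancel, h1, h1] at h2
  have hn1 : FreeGroup.norm (v⁻¹ * act h0 v) = 1 := by
    have hle := hclose v (act h0 v) hv hgv'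
    have hne0 : FreeGroup.norm (v⁻¹ * act h0 v) ≠ 0 := by
      intro h0'
      rw [FreeGroup.norm_eq_zero] at h0'
      exact hne (inv_mul_eq_one.mp h0').symm
    omega
  have hgw : g (act h0 (act h0 v)) = g v := by rw [hg_eq, hgv']
  have hv'min : ∀ x, g (act h0 v) ≤ g x := fun x => hgv' ▸ hv x
  have hw1 : FreeGroup.norm (v⁻¹ * act h0 (act h0 v)) ≤ 1 := hclose v _ hv hgw
  have hw2 : FreeGroup.norm ((act h0 v)⁻¹ * act h0 (act h0 v)) ≤ 1 :=
    hclose (act h0 v) _ hv'min (hgw.trans hgv'.symm)
  have hwv' : act h0 (act h0 v) ≠ act h0 v := fun e => hne (hinj _ _ e)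
  have hw2' : FreeGroup.norm ((act h0 v)⁻¹ * act h0 (act h0 v)) = 1 := by
    have h3 : FreeGroup.norm ((act h0 v)⁻¹ * act h0 (act h0 v)) ≠ 0 := by
      intro h0'
      rw [FreeGroup.norm_eq_zero] at h0'
      exact hwv' (inv_mul_eq_one.mp h0').symm
    omega
  obtain ⟨la, ha⟩ : ∃ la, (v⁻¹ * act h0 v).toWord = [la] := List.length_eq_one_iff.mp hn1
  have hwv : act h0 (act h0 v) = v := by
    by_contra hwne
    have hw1' : FreeGroup.norm (v⁻¹ * act h0 (act h0 v)) = 1 := by
      have h3 : FreeGroup.norm (v⁻¹ * act h0 (act h0 v)) ≠ 0 := by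
        intro h0'
        rw [FreeGroup.norm_eq_zero] at h0'
        exact hwne (inv_mul_eq_one.mp h0').symm
      omega
    obtain ⟨lb, hb⟩ : ∃ lb, (v⁻¹ * act h0 (act h0 v)).toWord = [lb] :=
      List.length_eq_one_iff.mp hw1'
    have e : (act h0 v)⁻¹ * act h0 (act h0 v) =
        (v⁻¹ * act h0 v)⁻¹ * (v⁻¹ * act h0 (act h0 v)) := by group
    rw [e] at hw2'
    exact norm_letters_ne_one _ _ la lb ha hb hw2'
  have hvv' : act h0 v = v * mk [la] := by
    have h3 : v⁻¹ * act h0 v = mk [la] := by rw [← ha, mk_toWord]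
    rw [← h3, mul_inv_cancel_left]
  obtain ⟨x, b⟩ := la
  cases b
  · -- the edge is `act h0 v → v`
    have hv2 : v = act h0 v * of x := by
      rw [hvv', mul_assoc]
      have h4 : (mk [(x, false)] : FreeGroup X) * of x = 1 := by
        have h5 : (mk [(x, false)] : FreeGroup X) = (of x)⁻¹ := rfl
        rw [h5, inv_mul_cancel]
      rw [h4, mul_one]
    obtain ⟨y, hy⟩ := hor h0 (act h0 v) x
    rw [← hv2, hwv, hvv'] at hy
    have h6 : (mk [(x, false)] : FreeGroup X) = of y := mul_left_cancel hy
    have h7 := congrArg toWord h6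
    rw [toWord_mk, toWord_of] at h7
    simp at h7
  · -- the edge is `v → act h0 v`
    have hv2 : act h0 v = v * of x := hvv'
    obtain ⟨y, hy⟩ := hor h0 v x
    rw [← hv2, hwv, hv2] at hy
    have h6 : of x * of y = (1 : FreeGroup X) := by
      have h8 : v * (of x * of y) = v * 1 := by rw [mul_one, ← mul_assoc]; exact hy.symm
      exact mul_left_cancel h8
    have h7 := congrArg toWord h6
    rw [toWord_mul, toWord_of, toWord_of, toWord_one] at h7
    simp at h7

end

end Cfsg.Agent.Lib.Helper77.LSF
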